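import Groth.Agent.Lib.Diag27.Local
import Groth.Agent.Lib.CI2.KoszulInv
import Groth.Agent.Lib.RegLoc.Quotient

/-!
# Koszul regular generators of an ideal at a prime, selection among given generators
-/

set_option autoImplicit false
set_option linter.style.haveILetI false

universe u

open IsLocalRing
open Groth.Agent.CI2 (Ex)

namespace Groth.Agent.Tor3Q9

variable {A : Type u} [CommRing A] (p : Ideal A) [p.IsPrime]

/-- The localisation at `p`. -/
abbrev Lp : Type u := Localization.AtPrime p

/-- The map to the localisation at `p`. -/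
noncomputable abbrev φ : A →+* Lp p := algebraMap A (Lp p)

theorem ofList_ofFn {R : Type u} [CommRing R] {c : ℕ} (f : Fin c → R) :
    Ideal.ofList (List.ofFn f) = Ideal.span (Set.range f) :=
  congrArg Ideal.span (Set.ext fun _ => List.mem_ofFn)

/-- Elements of `I` forming a Koszul regular generating sequence of `I` at `p`. -/
structure Good (I : Ideal A) {c : ℕ} (f : Fin c → A) : Prop where
  mem : ∀ i, f i ∈ I
  ex : Ex (Lp p) (Lp p) (List.ofFn fun i => φ p (f i))
  span_eq : Ideal.span (Set.range fun i => φ p (f i)) = I.map (φ p)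

variable {p}

theorem Good.exA {I : Ideal A} {c : ℕ} {f : Fin c → A} (h : Good p I f) :
    Ex A (Lp p) (List.ofFn f) := by
  refine CI2.Ex.of_map_bijective (σ := φ p)
    ({ toFun := id
       map_add' := fun _ _ => rfl
       map_smul' := fun a b => Algebra.smul_def a b } : Lp p →ₛₗ[φ p] Lp p) Function.bijective_id ?_
  rw [List.map_ofFn]
  exact h.ex

theorem Good.exists_smul_mem {I : Ideal A} {c : ℕ} {f : Fin c → A} (h : Good p I f) {x : A} (hx : x ∈ I) :
    ∃ s ∈ p.primeCompl, s * x ∈ Ideal.span (Set.range f) := by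
  refine (IsLocalization.algebraMap_mem_map_algebraMap_iff p.primeCompl (Lp p) (Ideal.span (Set.range f)) x).1 ?_
  rw [Ideal.map_span, ← Set.range_comp, show φ p ∘ f = fun i => φ p (f i) from rfl, h.span_eq]
  exact Ideal.mem_map_of_mem _ hx

theorem isUnit_of_notMem {x : A} (hx : x ∉ p) : IsUnit (φ p x) :=
  IsLocalization.map_units (Lp p) (⟨x, hx⟩ : p.primeCompl)

variable (p)

/-- Local regular generators exist when the quotient is regular at `p` or misses it. -/
theorem exists_good [IsRegularLocalRing (Lp p)] (I : Ideal A)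
    (hI : I ≤ p → IsRegularLocalRing (Lp p ⧸ I.map (φ p))) :
    ∃ (c : ℕ) (f : Fin c → A), Good p I f := by
  by_cases hle : I ≤ p
  · haveI := hI hle
    obtain ⟨c, g, hg, hreg⟩ := Diag27.exists_regular_generators (I.map (φ p))
    have hmem : ∀ i, g i ∈ I.map (φ p) := fun i => hg ▸ Ideal.subset_span ⟨i, rfl⟩
    choose as has using fun i => (IsLocalization.mem_map_algebraMap_iff p.primeCompl (Lp p)).1 (hmem i)
    let f : Fin c → A := fun i => (as i).1.1
    have hspan : Ideal.span (Set.range fun i => φ p (f i)) = I.map (φ p) := by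
      refine le_antisymm (Ideal.span_le.2 ?_) (hg.trans_le (Ideal.span_le.2 ?_))
      · rintro _ ⟨i, rfl⟩
        exact Ideal.mem_map_of_mem _ (as i).1.2
      · rintro _ ⟨i, rfl⟩
        refine (Ideal.mul_unit_mem_iff_mem _ (IsLocalization.map_units (Lp p) (as i).2)).1 ?_
        rw [has i]
        exact Ideal.subset_span ⟨i, rfl⟩
    refine ⟨c, f, fun i => (as i).1.2, ?_, hspan⟩
    exact CI2.ex_of_ofList_eq (CI2.ex_of_isWeaklyRegular _ _ hreg.toIsWeaklyRegular)
      (by rw [ofList_ofFn, ofList_ofFn, hspan, hg]) (by rw [List.length_ofFn, List.length_ofFn])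
  · obtain ⟨x, hxI, hxp⟩ := SetLike.not_le_iff_exists.1 hle
    have hu := isUnit_of_notMem hxp
    refine ⟨1, fun _ => x, fun _ => hxI, (CI2.ex_of_unit_mem _ ⟨φ p x, by simp, hu⟩).1, ?_⟩
    rw [Ideal.eq_top_of_isUnit_mem _ (Ideal.subset_span (show φ p x ∈ Set.range fun _ : Fin 1 => φ p x from ⟨0, rfl⟩)) hu,
      Ideal.eq_top_of_isUnit_mem _ (Ideal.mem_map_of_mem (φ p) hxI) hu]

theorem card_le_of_minimal {R : Type u} [CommRing R] [IsLocalRing R] {ι : Type} [Fintype ι] (t : ι → R)
    {c : ℕ} (g : Fin c → R) (hspan : Ideal.span (Set.range t) = Ideal.span (Set.range g))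
    (hmin : ∀ i, t i ∉ Ideal.span (t '' {j | j ≠ i})) : Fintype.card ι ≤ c := by
  classical
  choose P hP using fun k : Fin c => Ideal.mem_span_range_iff_exists_fun.1
    (hspan.ge (Ideal.subset_span ⟨k, rfl⟩) : g k ∈ Ideal.span (Set.range t))
  choose Q hQ using fun i : ι => Ideal.mem_span_range_iff_exists_fun.1
    (hspan.le (Ideal.subset_span ⟨i, rfl⟩) : t i ∈ Ideal.span (Set.range g))
  have hone : ∀ i l, (if l = i then 1 else 0) - ∑ k, Q i k * P k l ∈ maximalIdeal R := by
    intro i
    have hrel : ∑ l, ((if l = i then 1 else 0) - ∑ k, Q i k * P k l) * t l = 0 := by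
      simp only [sub_mul, Finset.sum_sub_distrib, ite_mul, one_mul, zero_mul, Finset.sum_ite_eq',
        Finset.mem_univ, if_true, Finset.sum_mul]
      rw [Finset.sum_comm]
      simp only [mul_assoc, ← Finset.mul_sum, hP, hQ, sub_self]
    intro l
    refine (mem_maximalIdeal _).2 fun hu => hmin l ?_
    rw [← Finset.add_sum_erase _ _ (Finset.mem_univ l), add_eq_zero_iff_eq_neg] at hrel
    rw [← Ideal.unit_mul_mem_iff_mem _ hu, hrel]
    exact neg_mem (Ideal.sum_mem _ fun j hj =>
      Ideal.mul_mem_left _ _ (Ideal.subset_span ⟨j, Finset.ne_of_mem_erase hj, rfl⟩))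
  let m := maximalIdeal R
  let π := Ideal.Quotient.mk m
  haveI : Nontrivial (R ⧸ m) := Ideal.Quotient.nontrivial_iff.2 (maximalIdeal.isMaximal R).ne_top
  let ev : (Fin c → R ⧸ m) →ₗ[R ⧸ m] (ι → R ⧸ m) :=
    LinearMap.pi fun l => ∑ k, π (P k l) • LinearMap.proj k
  have hev : Function.Surjective ev := fun y => by
    refine ⟨fun k => ∑ i, y i * π (Q i k), funext fun l => ?_⟩
    simp only [ev, LinearMap.pi_apply, LinearMap.coe_sum, Finset.sum_apply, LinearMap.smul_apply,
      LinearMap.proj_apply, smul_eq_mul, Finset.mul_sum]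
    rw [Finset.sum_comm]
    have : ∀ i, ∑ k, π (P k l) * (y i * π (Q i k)) = y i * (if l = i then 1 else 0) := fun i => by
      have h2 := Ideal.Quotient.eq.2 (hone i l)
      rw [map_sum] at h2
      rw [show (if l = i then (1 : R ⧸ m) else 0) = π (if l = i then 1 else 0) by split_ifs <;> simp, h2,
        Finset.mul_sum]
      exact Finset.sum_congr rfl fun k _ => by rw [map_mul]; ring
    simp only [this, mul_ite, mul_one, mul_zero, Finset.sum_ite_eq, Finset.mem_univ, if_true]
  simpa only [Fintype.card_fin] using card_le_of_surjective (R ⧸ m)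
    ((LinearEquiv.funCongrLeft (R ⧸ m) (R ⧸ m) (Fintype.equivFin ι).symm).toLinearMap ∘ₗ ev)
    ((LinearEquiv.funCongrLeft (R ⧸ m) (R ⧸ m) (Fintype.equivFin ι).symm).surjective.comp hev)

/-- A minimal generating subfamily at `p` of a family of generators is Koszul regular. -/
theorem exists_select [IsRegularLocalRing (Lp p)] (J : Ideal A)
    (hJ : J ≤ p → IsRegularLocalRing (Lp p ⧸ J.map (φ p)))
    {ι : Type} [Fintype ι] (t : ι → A) (ht : ∀ i, t i ∈ J)
    (hspan : Ideal.span (Set.range fun i => φ p (t i)) = J.map (φ p)) :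
    ∃ (r c : ℕ) (e : Fin r ⊕ Fin c ≃ ι), Good p J (fun k => t (e (Sum.inr k))) := by
  classical
  suffices h : ∃ (n : ℕ) (x : Fin n → ι), Function.Injective x ∧ Good p J (fun k => t (x k)) by
    obtain ⟨n, x, hx, hgood⟩ := h
    refine ⟨Fintype.card ((Set.range x)ᶜ : Set ι), n, (Equiv.sumComm _ _).trans
      ((Equiv.sumCongr (Equiv.ofInjective x hx) (Fintype.equivFin ((Set.range x)ᶜ : Set ι)).symm).trans
        (Equiv.Set.sumCompl (Set.range x))), ?_⟩
    exact hgood
  by_cases hle : J ≤ p
  · obtain ⟨c, g, hg⟩ := exists_good p J hJ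
    have hne : J.map (φ p) ≠ ⊤ := fun h => (maximalIdeal.isMaximal (Lp p)).ne_top (top_le_iff.1 (h.ge.trans
      (Ideal.map_le_iff_le_comap.2 fun x hx => (IsLocalization.AtPrime.to_map_mem_maximal_iff _ p x).2 (hle hx))))
    let P : ℕ → Prop := fun n => ∃ s : Finset ι, s.card = n ∧
      Ideal.span ((fun i => φ p (t i)) '' s) = J.map (φ p)
    have hex : ∃ n, P n := ⟨_, Finset.univ, rfl, by rw [Finset.coe_univ, Set.image_univ, hspan]⟩
    obtain ⟨s, hs, hsspan⟩ := Nat.find_spec hex
    let t' : (↑s : Set ι) → Lp p := fun i => φ p (t i)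
    have ht' : Ideal.span (Set.range t') = J.map (φ p) := by
      rw [← hsspan, Set.image_eq_range]
    have hmin : ∀ i, t' i ∉ Ideal.span (t' '' {j | j ≠ i}) := fun i hi => by
      refine Nat.find_min hex (show (s.erase i.1).card < Nat.find hex by
        rw [← hs]; exact Finset.card_erase_lt_of_mem i.2) ⟨_, rfl, le_antisymm ?_ ?_⟩
      · rw [← hsspan]
        exact Ideal.span_mono (Set.image_mono (Finset.coe_subset.2 (Finset.erase_subset _ _)))
      · rw [← ht']
        have hle' : Ideal.span (t' '' {j | j ≠ i}) ≤ Ideal.span ((fun a => φ p (t a)) '' ↑(s.erase i.1)) := by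
          refine Ideal.span_mono ?_
          rintro _ ⟨j, hj, rfl⟩
          exact ⟨j.1, Finset.mem_coe.2 (Finset.mem_erase.2 ⟨fun e => hj (Subtype.ext e), j.2⟩), rfl⟩
        refine Ideal.span_le.2 ?_
        rintro _ ⟨j, rfl⟩
        rcases eq_or_ne j i with rfl | hne
        · exact hle' hi
        · exact hle' (Ideal.subset_span ⟨j, hne, rfl⟩)
    have hcard : Fintype.card (↑s : Set ι) ≤ c :=
      card_le_of_minimal t' (fun k => φ p (g k)) (ht'.trans hg.span_eq.symm) hmin
    let f : Fin (Fintype.card (↑s : Set ι)) → A := fun k => t ((Fintype.equivFin (↑s : Set ι)).symm k)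
    have hf : Ideal.span (Set.range fun k => φ p (f k)) = J.map (φ p) := by
      rw [← ht']
      exact congrArg Ideal.span ((Fintype.equivFin (↑s : Set ι)).symm.surjective.range_comp t')
    have heq : Ideal.ofList (List.ofFn fun k => φ p (f k)) = Ideal.ofList (List.ofFn fun k => φ p (g k)) :=
      (ofList_ofFn _).trans (hf.trans (hg.span_eq.symm.trans (ofList_ofFn _).symm))
    have hne' : Ideal.ofList (List.ofFn fun k => φ p (g k)) ≠ ⊤ :=
      fun h => hne (hg.span_eq.symm.trans ((ofList_ofFn _).symm.trans h))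
    have hlen := CI2.length_le_of_ofList_eq hg.ex hne' heq
    simp only [List.length_ofFn] at hlen
    have hlen' : (List.ofFn fun k => φ p (f k)).length = (List.ofFn fun k => φ p (g k)).length := by
      simp only [List.length_ofFn]; omega
    have hex' := CI2.ex_of_ofList_eq hg.ex heq hlen'
    exact ⟨_, fun k => ((Fintype.equivFin (↑s : Set ι)).symm k).1,
      Subtype.val_injective.comp (Equiv.injective _), fun k => ht _, hex', hf⟩
  · obtain ⟨i, hi⟩ : ∃ i, t i ∉ p := by
      by_contra! hall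
      obtain ⟨x, hxJ, hxp⟩ := SetLike.not_le_iff_exists.1 hle
      have h1 : φ p x ∈ maximalIdeal (Lp p) := (hspan.ge.trans (Ideal.span_le.2 (by
        rintro _ ⟨j, rfl⟩
        exact (IsLocalization.AtPrime.to_map_mem_maximal_iff _ p _).2 (hall j)))) (Ideal.mem_map_of_mem _ hxJ)
      exact hxp ((IsLocalization.AtPrime.to_map_mem_maximal_iff _ p x).1 h1)
    have hu := isUnit_of_notMem hi
    refine ⟨1, fun _ => i, Function.injective_of_subsingleton _, fun _ => ht i,
      (CI2.ex_of_unit_mem _ ⟨φ p (t i), by simp, hu⟩).1, ?_⟩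
    rw [Ideal.eq_top_of_isUnit_mem _ (Ideal.subset_span (show φ p (t i) ∈ Set.range fun _ : Fin 1 => φ p (t i) from ⟨0, rfl⟩)) hu,
      Ideal.eq_top_of_isUnit_mem _ (Ideal.mem_map_of_mem (φ p) (ht i)) hu]

end Groth.Agent.Tor3Q9
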