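import Groth.Agent.Lib.Tor3Q9.Gens
import Mathlib.LinearAlgebra.ExteriorPower.Basis
import Mathlib.LinearAlgebra.TensorProduct.Quotient
import Mathlib.RingTheory.TensorProduct.IsBaseChangePi

/-!
# The kernel of the conormal map of three regular quotients is free at a prime
-/

set_option autoImplicit false
set_option linter.style.haveILetI false
set_option backward.isDefEq.respectTransparency.types false
set_option backward.isDefEq.respectTransparency false

universe u

open scoped TensorProduct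
open Groth.Agent.CI2 (Ex)

noncomputable section

namespace Groth.Agent.Tor3Q9

variable {A : Type u} [CommRing A] (p : Ideal A) [p.IsPrime]

section Sat

variable {B : Type u} [CommRing B] [Algebra A B] {M : Type u} [AddCommGroup M] [Module A M] [Module B M]
  [IsScalarTower A B M]

/-- Saturation at `p`. -/
def sat (N : Submodule B M) : Submodule B M where
  carrier := {m | ∃ s ∈ p.primeCompl, s • m ∈ N}
  add_mem' := by
    rintro m m' ⟨s, hs, hm⟩ ⟨t, ht, hm'⟩
    refine ⟨s * t, mul_mem hs ht, ?_⟩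
    rw [smul_add]
    exact add_mem (by rw [mul_comm, mul_smul]; exact N.smul_of_tower_mem t hm)
      (by rw [mul_smul]; exact N.smul_of_tower_mem s hm')
  zero_mem' := ⟨1, one_mem _, by rw [smul_zero]; exact zero_mem _⟩
  smul_mem' := by
    rintro b m ⟨s, hs, hm⟩
    exact ⟨s, hs, by rw [smul_comm]; exact N.smul_mem b hm⟩

theorem le_sat (N : Submodule B M) : N ≤ sat p N := fun m hm => ⟨1, one_mem _, by rwa [one_smul]⟩

theorem mem_sat_of_smul_mem {N : Submodule B M} {s : A} (hs : s ∈ p.primeCompl) {m : M} (h : s • m ∈ sat p N) :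
    m ∈ sat p N := by
  obtain ⟨t, ht, hm⟩ := h
  exact ⟨t * s, mul_mem ht hs, by rwa [mul_smul]⟩

end Sat

section Exterior

variable {B : Type u} [CommRing B] [Algebra A B]

theorem nonempty_equiv_of_inverse {M N : Type u} [AddCommGroup M] [Module A M] [AddCommGroup N] [Module A N]
    (f : M →ₗ[A] N) (g : N →ₗ[A] M) {a : A} (ha : a ∈ p.primeCompl) (h₁ : ∀ x, g (f x) = a • x)
    (h₂ : ∀ y, f (g y) = a • y) :
    Nonempty (LocalizedModule p.primeCompl M ≃ₗ[A] LocalizedModule p.primeCompl N) := by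
  let mM := LocalizedModule.mkLinearMap p.primeCompl M
  let mN := LocalizedModule.mkLinearMap p.primeCompl N
  let F := IsLocalizedModule.map p.primeCompl mM mN f
  let G := IsLocalizedModule.map p.primeCompl mN mM g
  have hGF : ∀ x, G (F x) = a • x := LinearMap.congr_fun
    (IsLocalizedModule.ext p.primeCompl mM (IsLocalizedModule.map_units mM)
      (j := G ∘ₗ F) (k := a • LinearMap.id) (LinearMap.ext fun x => by
        simp only [LinearMap.comp_apply, LinearMap.smul_apply, LinearMap.id_apply, F, G,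
          IsLocalizedModule.map_apply, h₁, map_smul]))
  have hFG : ∀ y, F (G y) = a • y := LinearMap.congr_fun
    (IsLocalizedModule.ext p.primeCompl mN (IsLocalizedModule.map_units mN)
      (j := F ∘ₗ G) (k := a • LinearMap.id) (LinearMap.ext fun x => by
        simp only [LinearMap.comp_apply, LinearMap.smul_apply, LinearMap.id_apply, F, G,
          IsLocalizedModule.map_apply, h₂, map_smul]))
  have bM := (Module.End.isUnit_iff _).1 (IsLocalizedModule.map_units mM ⟨a, ha⟩)
  have bN := (Module.End.isUnit_iff _).1 (IsLocalizedModule.map_units mN ⟨a, ha⟩)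
  refine ⟨LinearEquiv.ofBijective F ⟨fun x y h => bM.1 ?_, fun y => ?_⟩⟩
  · show a • x = a • y
    rw [← hGF, ← hGF, h]
  · obtain ⟨z, hz⟩ := bN.2 y
    exact ⟨G z, by rw [hFG]; exact hz⟩

/-- Localised exterior powers of a module free at `p`. -/
theorem nonempty_exterior [IsNoetherianRing B] {K : Type u} [AddCommGroup K] [Module A K] [Module B K]
    [IsScalarTower A B K] [Module.Finite B K] {r : ℕ} (f : (Fin r → B) →ₗ[B] K)
    (hsurj : ∀ k : K, ∃ s ∈ p.primeCompl, s • k ∈ LinearMap.range f)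
    (hinj : ∀ b, f b = 0 → ∃ s ∈ p.primeCompl, s • b = 0) (q : ℕ) :
    Nonempty (LocalizedModule p.primeCompl (RestrictScalars A B ↥(⋀[B]^q K)) ≃ₗ[A]
      (Fin (r.choose q) → LocalizedModule p.primeCompl B)) := by
  classical
  obtain ⟨G, hG⟩ := (Module.Finite.fg_top : (⊤ : Submodule B K).FG)
  choose s hs hsk using hsurj
  obtain ⟨H, hH⟩ := (IsNoetherian.noetherian (LinearMap.ker f) : (LinearMap.ker f).FG)
  choose s' hs' hsb using hinj
  let u : A := ∏ k ∈ G, s k
  let u' : A := ∏ b ∈ H.attach, s' b.1 (hH.le (Submodule.subset_span b.2))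
  have hu : u ∈ p.primeCompl := prod_mem fun k _ => hs k
  have hu' : u' ∈ p.primeCompl := prod_mem fun b _ => hs' b.1 _
  have hrange : ∀ k : K, algebraMap A B u • k ∈ LinearMap.range f := by
    intro k
    induction (hG.ge trivial : k ∈ Submodule.span B (G : Set K)) using Submodule.span_induction with
    | mem x hx =>
      rw [algebraMap_smul, show u = (∏ j ∈ G.erase x, s j) * s x from (Finset.prod_erase_mul G s hx).symm, mul_smul]
      exact Submodule.smul_of_tower_mem _ _ (hsk x)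
    | zero => rw [smul_zero]; exact zero_mem _
    | add x y _ _ hx hy => rw [smul_add]; exact add_mem hx hy
    | smul c x _ hx => rw [smul_comm]; exact Submodule.smul_mem _ c hx
  have hker : ∀ b, f b = 0 → u' • b = 0 := by
    intro b hb
    have hb' : b ∈ Submodule.span B (H : Set (Fin r → B)) := hH.ge hb
    clear hb
    induction hb' using Submodule.span_induction with
    | mem x hx =>
      rw [show u' = (∏ j ∈ H.attach.erase ⟨x, hx⟩, s' j.1 (hH.le (Submodule.subset_span j.2))) *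
        s' x (hH.le (Submodule.subset_span hx)) from (Finset.prod_erase_mul H.attach
          (fun j => s' j.1 (hH.le (Submodule.subset_span j.2))) (Finset.mem_attach H ⟨x, hx⟩)).symm,
        mul_smul, hsb x, smul_zero]
    | zero => exact smul_zero _
    | add x y _ _ hx hy => rw [smul_add, hx, hy, add_zero]
    | smul c x _ hx => rw [smul_comm, hx, smul_zero]
  choose pre hpre using hrange
  have huniq : ∀ b b', f b = f b' → u' • b = u' • b' := fun b b' h => by
    rw [← sub_eq_zero, ← smul_sub]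
    exact hker _ (by rw [map_sub, h, sub_self])
  let g : K →ₗ[B] (Fin r → B) :=
    { toFun := fun k => u' • pre k
      map_add' := fun k k' => by
        rw [← smul_add]
        exact huniq _ _ (by rw [map_add, hpre, hpre, hpre, smul_add])
      map_smul' := fun c k => by
        rw [RingHom.id_apply, ← smul_comm u' c]
        exact huniq _ _ (by rw [map_smul, hpre, hpre, smul_comm]) }
  let t : B := algebraMap A B (u' * u)
  have hgf : g ∘ₗ f = t • LinearMap.id := LinearMap.ext fun b => by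
    show u' • pre (f b) = t • b
    rw [algebraMap_smul, mul_smul]
    exact huniq _ _ (by rw [hpre, ← algebraMap_smul B u b, map_smul])
  have hfg : f ∘ₗ g = t • LinearMap.id := LinearMap.ext fun k => by
    show f (u' • pre k) = t • k
    rw [← algebraMap_smul B u' (pre k), map_smul, hpre, smul_smul, ← map_mul]
  have hpow : ∀ {N : Type u} [AddCommGroup N] [Module B N],
      exteriorPower.map q (t • (LinearMap.id : N →ₗ[B] N)) = t ^ q • LinearMap.id := by
    intro N _ _
    refine exteriorPower.linearMap_ext (AlternatingMap.ext fun v => ?_)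
    simp only [LinearMap.compAlternatingMap_apply, exteriorPower.map_apply_ιMulti, LinearMap.smul_apply,
      LinearMap.id_apply]
    exact ((exteriorPower.ιMulti B q).map_smul_univ (fun _ => t) v).trans (by simp)
  let bas := (Pi.basisFun B (Fin r)).exteriorPower q
  let e := bas.equivFun.trans (LinearEquiv.funCongrLeft B B
    (Fintype.equivFinOfCardEq (show Fintype.card (Set.powersetCard (Fin r) q) = r.choose q by
      rw [← Nat.card_eq_fintype_card, Set.powersetCard.card, Nat.card_eq_fintype_card, Fintype.card_fin])).symm)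
  let F : (Fin (r.choose q) → B) →ₗ[B] ↥(⋀[B]^q K) := exteriorPower.map q f ∘ₗ e.symm.toLinearMap
  let G' : ↥(⋀[B]^q K) →ₗ[B] (Fin (r.choose q) → B) := e.toLinearMap ∘ₗ exteriorPower.map q g
  have h1 : ∀ x, G' (F x) = t ^ q • x := fun x => by
    show e (exteriorPower.map q g (exteriorPower.map q f (e.symm x))) = _
    rw [← LinearMap.comp_apply, ← exteriorPower.map_comp, hgf, hpow, LinearMap.smul_apply, LinearMap.id_apply,
      map_smul, LinearEquiv.apply_symm_apply]
  have h2 : ∀ y, F (G' y) = t ^ q • y := fun y => by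
    show exteriorPower.map q f (e.symm (e (exteriorPower.map q g y))) = _
    rw [LinearEquiv.symm_apply_apply, ← LinearMap.comp_apply, ← exteriorPower.map_comp, hfg, hpow]
    rfl
  let ρ : (RestrictScalars A B ↥(⋀[B]^q K)) ≃+ ↥(⋀[B]^q K) := RestrictScalars.addEquiv A B _
  have hρ : ∀ (a : A) (z : (RestrictScalars A B ↥(⋀[B]^q K))), ρ (a • z) = algebraMap A B a • ρ z := fun a z =>
    RestrictScalars.addEquiv_map_smul A B _ a z
  let FA : (Fin (r.choose q) → B) →ₗ[A] (RestrictScalars A B ↥(⋀[B]^q K)) :=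
    { toFun := fun x => ρ.symm (F x)
      map_add' := fun x y => by rw [map_add, map_add]
      map_smul' := fun a x => ρ.injective (by
        rw [RingHom.id_apply, hρ, ρ.apply_symm_apply, ρ.apply_symm_apply, ← map_smul, algebraMap_smul]) }
  let GA : (RestrictScalars A B ↥(⋀[B]^q K)) →ₗ[A] (Fin (r.choose q) → B) :=
    { toFun := fun z => G' (ρ z)
      map_add' := fun x y => by rw [map_add, map_add]
      map_smul' := fun a z => by rw [RingHom.id_apply, hρ, map_smul, algebraMap_smul] }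
  obtain ⟨eloc⟩ := nonempty_equiv_of_inverse p GA FA (a := (u' * u) ^ q) (pow_mem (mul_mem hu' hu) q)
    (fun z => ρ.injective (by
      show ρ (ρ.symm (F (G' (ρ z)))) = _
      rw [ρ.apply_symm_apply, h2, hρ, map_pow]))
    (fun x => by
      show G' (ρ (ρ.symm (F x))) = _
      rw [ρ.apply_symm_apply, h1, ← algebraMap_smul B ((u' * u) ^ q) x, map_pow])
  exact ⟨eloc.trans (IsLocalizedModule.linearEquiv p.primeCompl
    (LocalizedModule.mkLinearMap p.primeCompl (Fin (r.choose q) → B))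
    (LinearMap.pi fun i : Fin (r.choose q) =>
      LocalizedModule.mkLinearMap p.primeCompl B ∘ₗ LinearMap.proj i))⟩

end Exterior

variable {p}

/-- A relation of a regular sequence modulo `J` has coefficients vanishing at `p`. -/
theorem Good.indep {I J : Ideal A} (hIJ : I ≤ J) {c : ℕ} {f : Fin c → A} (h : Good p I f)
    (b : Fin c → A ⧸ J) (hb : ∑ k, b k • ((1 : A ⧸ J) ⊗ₜ[A] (⟨f k, h.mem k⟩ : I)) = 0) (k : Fin c) :
    ∃ s ∈ p.primeCompl, s • b k = 0 := by
  classical
  choose a ha using fun k => Ideal.Quotient.mk_surjective (I := J) (b k)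
  let x : I := ∑ k, a k • (⟨f k, h.mem k⟩ : I)
  have h1 : ((1 : A ⧸ J) ⊗ₜ[A] x) = 0 := by
    rw [← hb, TensorProduct.tmul_sum]
    refine Finset.sum_congr rfl fun k _ => ?_
    rw [TensorProduct.tmul_smul, ← algebraMap_smul (A ⧸ J) (a k)]
    exact congrArg (· • _) (ha k)
  have h2 : x ∈ J • (⊤ : Submodule A I) := by
    have := congrArg (TensorProduct.quotTensorEquivQuotSMul I J) h1
    rw [map_zero, TensorProduct.quotTensorEquivQuotSMul_mk_one_tmul, Submodule.Quotient.mk_eq_zero] at this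
    exact this
  have h3 : (x : A) ∈ J * I := by
    have := Submodule.mem_map_of_mem (f := (I : Submodule A A).subtype) h2
    rw [Submodule.map_smul'', Submodule.map_top, Submodule.range_subtype] at this
    exact this
  have h4 : φ p (x : A) ∈ J.map (φ p) • Submodule.span (Lp p) (Set.range fun k => φ p (f k)) := by
    rw [smul_eq_mul]
    show φ p (x : A) ∈ J.map (φ p) * Ideal.span (Set.range fun k => φ p (f k))
    rw [h.span_eq, ← Ideal.map_mul]
    exact Ideal.mem_map_of_mem _ h3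
  rw [Submodule.mem_ideal_smul_span_iff_exists_sum] at h4
  obtain ⟨j, hj, hjsum⟩ := h4
  rw [Finsupp.sum_fintype _ _ (fun i => by simp)] at hjsum
  have hx : φ p (x : A) = ∑ k, φ p (a k) * φ p (f k) := by
    simp [x, map_sum]
  have h5 : φ p (a k) - j k ∈ Ideal.span (Set.range fun k => φ p (f k)) :=
    CI2.mem_of_sq_relation h.ex (fun k => φ p (a k) - j k) (by
      have hz : ∑ k, (φ p (a k) - j k) * φ p (f k) = 0 := by
        simp only [sub_mul, Finset.sum_sub_distrib]
        rw [← hx, ← hjsum]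
        simp only [smul_eq_mul, sub_self]
      rw [hz]; exact zero_mem _) k
  have h6 : φ p (a k) ∈ J.map (φ p) := by
    have h7 : φ p (a k) - j k ∈ J.map (φ p) := Ideal.map_mono hIJ (h.span_eq ▸ h5)
    simpa using add_mem h7 (hj k)
  obtain ⟨s, hs, hsa⟩ := (IsLocalization.algebraMap_mem_map_algebraMap_iff p.primeCompl (Lp p) J (a k)).1 h6
  refine ⟨s, hs, ?_⟩
  rw [← ha k, ← Ideal.Quotient.mk_eq_mk, ← Submodule.Quotient.mk_smul, Submodule.Quotient.mk_eq_zero]
  exact hsa

section Three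

variable {J₁ J₂ J₃ J : Ideal A} {c₁ c₂ c₃ : ℕ} {f₁ : Fin c₁ → A} {f₂ : Fin c₂ → A} {f₃ : Fin c₃ → A}
  (h₁ : Good p J₁ f₁) (h₂ : Good p J₂ f₂) (h₃ : Good p J₃ f₃)

/-- The generators of `J₁ × J₂ × J₃` at `p`. -/
def gen : Fin c₁ ⊕ (Fin c₂ ⊕ Fin c₃) → ↥J₁ × (↥J₂ × ↥J₃) :=
  Sum.elim (fun k => (⟨f₁ k, h₁.mem k⟩, 0, 0))
    (Sum.elim (fun k => (0, ⟨f₂ k, h₂.mem k⟩, 0)) (fun k => (0, 0, ⟨f₃ k, h₃.mem k⟩)))

theorem sat_single {M : Type u} [AddCommGroup M] [Module A M] {I : Ideal A} {c : ℕ} {f : Fin c → A}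
    (h : Good p I f) (i : ↥I →ₗ[A] M) (N : Submodule A M) (hN : ∀ k, i ⟨f k, h.mem k⟩ ∈ N) (x : I) :
    i x ∈ sat p N := by
  obtain ⟨s, hs, hsx⟩ := h.exists_smul_mem x.2
  obtain ⟨a, ha⟩ := Ideal.mem_span_range_iff_exists_fun.1 hsx
  refine ⟨s, hs, ?_⟩
  have hx : s • x = ∑ k, a k • (⟨f k, h.mem k⟩ : I) := Subtype.ext (by simp [ha])
  rw [← map_smul, hx, map_sum]
  exact Submodule.sum_mem _ fun k _ => by rw [map_smul]; exact N.smul_mem _ (hN k)

theorem tmul_mem_sat (v : ↥J₁ × (↥J₂ × ↥J₃)) :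
    v ∈ sat p (Submodule.span A (Set.range (gen h₁ h₂ h₃))) := by
  have hv : v = LinearMap.inl A _ _ v.1 + ((LinearMap.inr A _ _ ∘ₗ LinearMap.inl A _ _) v.2.1 +
      (LinearMap.inr A _ _ ∘ₗ LinearMap.inr A _ _) v.2.2) := by
    ext <;> simp
  rw [hv]
  refine add_mem (sat_single h₁ _ _ (fun k => ?_) _)
    (add_mem (sat_single h₂ _ _ (fun k => ?_) _) (sat_single h₃ _ _ (fun k => ?_) _))
  · exact Submodule.subset_span ⟨Sum.inl k, rfl⟩
  · exact Submodule.subset_span ⟨Sum.inr (Sum.inl k), rfl⟩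
  · exact Submodule.subset_span ⟨Sum.inr (Sum.inr k), rfl⟩

theorem gen_indep (hJ₁ : J₁ ≤ J) (hJ₂ : J₂ ≤ J) (hJ₃ : J₃ ≤ J) (β : Fin c₁ ⊕ (Fin c₂ ⊕ Fin c₃) → A ⧸ J)
    (hβ : ∑ i, β i • ((1 : A ⧸ J) ⊗ₜ[A] gen h₁ h₂ h₃ i) = 0) (i : Fin c₁ ⊕ (Fin c₂ ⊕ Fin c₃)) :
    ∃ s ∈ p.primeCompl, s • β i = 0 := by
  rcases i with k | k | k
  · refine h₁.indep hJ₁ (fun k => β (Sum.inl k)) ?_ k
    have := congrArg ((LinearMap.fst A ↥J₁ (↥J₂ × ↥J₃)).baseChange (A ⧸ J)) hβ
    simpa [map_sum, gen, Fintype.sum_sum_type] using this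
  · refine h₂.indep hJ₂ (fun k => β (Sum.inr (Sum.inl k))) ?_ k
    have := congrArg (((LinearMap.fst A ↥J₂ ↥J₃) ∘ₗ LinearMap.snd A ↥J₁ (↥J₂ × ↥J₃)).baseChange (A ⧸ J)) hβ
    simpa [map_sum, gen, Fintype.sum_sum_type] using this
  · refine h₃.indep hJ₃ (fun k => β (Sum.inr (Sum.inr k))) ?_ k
    have := congrArg (((LinearMap.snd A ↥J₂ ↥J₃) ∘ₗ LinearMap.snd A ↥J₁ (↥J₂ × ↥J₃)).baseChange (A ⧸ J)) hβ
    simpa [map_sum, gen, Fintype.sum_sum_type] using this

/-- The kernel of the conormal map has a basis at `p`. -/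
theorem exists_kernel_basis (hJ₁ : J₁ ≤ J) (hJ₂ : J₂ ≤ J) (hJ₃ : J₃ ≤ J)
    (S : (↥J₁ × (↥J₂ × ↥J₃)) →ₗ[A] ↥J) {r c : ℕ} (e : Fin r ⊕ Fin c ≃ Fin c₁ ⊕ (Fin c₂ ⊕ Fin c₃))
    (hx : Good p J (fun k => (S (gen h₁ h₂ h₃ (e (Sum.inr k))) : A))) :
    ∃ f : (Fin r → A ⧸ J) →ₗ[A ⧸ J] ↥(LinearMap.ker (S.baseChange (A ⧸ J))),
      (∀ z, ∃ s ∈ p.primeCompl, s • z ∈ LinearMap.range f) ∧
        ∀ b, f b = 0 → ∃ s ∈ p.primeCompl, s • b = 0 := by
  classical
  set B := A ⧸ J
  let w := gen h₁ h₂ h₃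
  choose s hs hsy using fun k : Fin r => hx.exists_smul_mem (S (w (e (Sum.inl k)))).2
  choose a ha using fun k : Fin r => Ideal.mem_span_range_iff_exists_fun.1 (hsy k)
  let v : Fin r → ↥J₁ × (↥J₂ × ↥J₃) := fun k =>
    s k • w (e (Sum.inl k)) - ∑ l, a k l • w (e (Sum.inr l))
  have hv : ∀ k, S (v k) = 0 := fun k => by
    refine Subtype.ext ?_
    simp only [v, map_sub, map_smul, map_sum, Submodule.coe_sub, Submodule.coe_smul, Submodule.coe_sum,
      ZeroMemClass.coe_zero, smul_eq_mul, sub_eq_zero]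
    exact (ha k).symm
  let kv : Fin r → ↥(LinearMap.ker (S.baseChange B)) := fun k =>
    ⟨(1 : B) ⊗ₜ[A] v k, by rw [LinearMap.mem_ker, LinearMap.baseChange_tmul, hv, TensorProduct.tmul_zero]⟩
  let f : (Fin r → B) →ₗ[B] ↥(LinearMap.ker (S.baseChange B)) := Fintype.linearCombination B kv
  have hf : ∀ b, (f b : B ⊗[A] (↥J₁ × (↥J₂ × ↥J₃))) = ∑ k, b k • ((1 : B) ⊗ₜ[A] v k) := fun b => by
    rw [show f b = ∑ k, b k • kv k from Fintype.linearCombination_apply B kv b]
    simp [kv]
  refine ⟨f, fun z => ?_, fun b hb => ?_⟩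
  · let Y : Submodule B (B ⊗[A] (↥J₁ × (↥J₂ × ↥J₃))) := Submodule.span B (Set.range fun k => (1 : B) ⊗ₜ[A] v k)
    let X : Submodule B (B ⊗[A] (↥J₁ × (↥J₂ × ↥J₃))) :=
      Submodule.span B (Set.range fun l => (1 : B) ⊗ₜ[A] w (e (Sum.inr l)))
    have hgen : ∀ i, (1 : B) ⊗ₜ[A] w i ∈ sat p (Y ⊔ X) := fun i => by
      obtain ⟨i, rfl⟩ := e.surjective i
      rcases i with k | l
      · refine mem_sat_of_smul_mem p (hs k) (le_sat p _ ?_)
        rw [← TensorProduct.tmul_smul, show s k • w (e (Sum.inl k)) = v k + ∑ l, a k l • w (e (Sum.inr l)) by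
          simp [v], TensorProduct.tmul_add, TensorProduct.tmul_sum]
        refine Submodule.add_mem_sup (Submodule.subset_span ⟨k, rfl⟩) (Submodule.sum_mem _ fun l _ => ?_)
        rw [TensorProduct.tmul_smul]
        exact Submodule.smul_of_tower_mem _ _ (Submodule.subset_span ⟨l, rfl⟩)
      · exact le_sat p _ (Submodule.mem_sup_right (Submodule.subset_span ⟨l, rfl⟩))
    have hall : ∀ y : B ⊗[A] (↥J₁ × (↥J₂ × ↥J₃)), y ∈ sat p (Y ⊔ X) := fun y => by
      induction y using TensorProduct.induction_on with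
      | zero => exact zero_mem _
      | add y y' hy hy' => exact add_mem hy hy'
      | tmul b m =>
        rw [show b ⊗ₜ[A] m = b • ((1 : B) ⊗ₜ[A] m) by rw [TensorProduct.smul_tmul', smul_eq_mul, mul_one]]
        refine Submodule.smul_mem _ b ?_
        obtain ⟨t, ht, htm⟩ := tmul_mem_sat h₁ h₂ h₃ m
        refine mem_sat_of_smul_mem p ht ?_
        rw [← TensorProduct.tmul_smul]
        generalize t • m = y at htm ⊢
        induction htm using Submodule.span_induction with
        | mem x hx' => obtain ⟨i, rfl⟩ := hx'; exact hgen i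
        | zero => rw [TensorProduct.tmul_zero]; exact zero_mem _
        | add x y _ _ hx' hy' => rw [TensorProduct.tmul_add]; exact add_mem hx' hy'
        | smul c x _ hx' => rw [TensorProduct.tmul_smul]; exact Submodule.smul_of_tower_mem _ c hx'
    obtain ⟨t, ht, htz⟩ := hall z.1
    obtain ⟨y, hy, x, hx', hxy⟩ := Submodule.mem_sup.1 htz
    obtain ⟨b, hb⟩ := (Submodule.mem_span_range_iff_exists_fun B).1 hy
    obtain ⟨γ, hγ⟩ := (Submodule.mem_span_range_iff_exists_fun B).1 hx'
    have h0 : ∑ l, γ l • ((1 : B) ⊗ₜ[A] S (w (e (Sum.inr l)))) = 0 := by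
      have hz : (S.baseChange B) (t • z.1) = 0 := by
        rw [← algebraMap_smul B t z.1, map_smul, LinearMap.mem_ker.1 z.2, smul_zero]
      have hy0 : (S.baseChange B) y = 0 := by
        rw [← hb, ← hf b]; exact LinearMap.mem_ker.1 (f b).2
      rw [← hxy, map_add, hy0, zero_add, ← hγ, map_sum] at hz
      simpa only [map_smul, LinearMap.baseChange_tmul] using hz
    choose u hu hγu using hx.indep le_rfl γ h0
    let U : A := ∏ l, u l
    refine ⟨U * t, mul_mem (prod_mem fun l _ => hu l) ht, fun k => U • b k, Subtype.ext ?_⟩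
    rw [hf]
    show _ = (U * t) • z.1
    rw [mul_smul, ← hxy, smul_add, ← hb, ← hγ, Finset.smul_sum, Finset.smul_sum]
    have hγ0 : ∀ l, U • γ l = 0 := fun l => by
      rw [show U = (∏ j ∈ Finset.univ.erase l, u j) * u l from
        (Finset.prod_erase_mul _ _ (Finset.mem_univ l)).symm, mul_smul, hγu l, smul_zero]
    simp only [← smul_assoc, hγ0, zero_smul, Finset.sum_const_zero, add_zero]
  · let δ : Fin r ⊕ Fin c → B := Sum.elim (fun k => s k • b k) (fun l => - ∑ k, a k l • b k)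
    have hsum : ∑ i, δ (e.symm i) • ((1 : B) ⊗ₜ[A] w i) = 0 := by
      rw [← e.sum_comp, Fintype.sum_sum_type]
      simp only [Equiv.symm_apply_apply, δ, Sum.elim_inl, Sum.elim_inr]
      have h0 : ∑ k, b k • ((1 : B) ⊗ₜ[A] v k) = 0 := by rw [← hf, hb]; rfl
      simp only [v, TensorProduct.tmul_sub, TensorProduct.tmul_sum, TensorProduct.tmul_smul, smul_sub,
        Finset.smul_sum, Finset.sum_sub_distrib] at h0
      rw [Finset.sum_comm] at h0
      rw [← h0, sub_eq_add_neg, ← Finset.sum_neg_distrib]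
      congr 1 <;> refine Finset.sum_congr rfl fun i _ => ?_
      · rw [smul_assoc, smul_comm]
      · refine (map_neg (LinearMap.toSpanSingleton B (B ⊗[A] (↥J₁ × (↥J₂ × ↥J₃))) ((1 : B) ⊗ₜ[A] w (e (Sum.inr i)))) _).trans ?_
        rw [LinearMap.toSpanSingleton_apply]
        rw [Finset.sum_smul]
        refine congrArg Neg.neg (Finset.sum_congr rfl fun j _ => ?_)
        rw [smul_assoc, smul_comm]
    choose u hu hbu using fun k => gen_indep h₁ h₂ h₃ hJ₁ hJ₂ hJ₃ (fun i => δ (e.symm i)) hsum (e (Sum.inl k))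
    refine ⟨∏ k, u k * s k, prod_mem fun k _ => mul_mem (hu k) (hs k), funext fun k => ?_⟩
    have := hbu k
    simp only [Equiv.symm_apply_apply, δ, Sum.elim_inl] at this
    rw [Pi.smul_apply, show (∏ j, u j * s j) = (∏ j ∈ Finset.univ.erase k, u j * s j) * (u k * s k) from
      (Finset.prod_erase_mul _ _ (Finset.mem_univ k)).symm, mul_smul, mul_smul (u k), this, smul_zero]
    rfl

end Three

end Groth.Agent.Tor3Q9
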