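import Groth.Agent.Lib.Tor3Q9.Gens
import Groth.Agent.Lib.KoszulSplit2.Basic

/-!
# Koszul homology at a prime of a sequence generated by a regular subsequence
-/

set_option autoImplicit false
set_option linter.style.haveILetI false
set_option backward.isDefEq.respectTransparency.types false
set_option backward.isDefEq.respectTransparency false

universe u

open Groth.Agent.CanElt (KObj kd k0)
open Groth.Agent.CI2 (Ex KIso)
open Groth.Agent.KoszulSplit2

noncomputable section

namespace Groth.Agent.Tor3Q9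

variable {A : Type u} [CommRing A] {M : Type u} [AddCommGroup M] [Module A M]

theorem smul_bijective_KObj (s : A) (h : Function.Bijective fun m : M => s • m) :
    ∀ (l : List A) (n : ℕ), Function.Bijective fun x : KObj A M l n => s • x
  | [], 0 => h
  | [], n + 1 => by
    haveI : Subsingleton (KObj A M ([] : List A) (n + 1)) := inferInstanceAs (Subsingleton PUnit)
    exact ⟨fun _ _ _ => Subsingleton.elim _ _, fun y => ⟨y, Subsingleton.elim _ _⟩⟩
  | _ :: l, 0 => smul_bijective_KObj s h l 0
  | _ :: l, n + 1 => (smul_bijective_KObj s h l (n + 1)).prodMap (smul_bijective_KObj s h l n)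

theorem kiso_scale_head (s f : A) (h : Function.Bijective fun m : M => s • m) (l : List A) :
    KIso M ((s * f) :: l) (f :: l) := by
  let σ : ∀ n, KObj A M l n ≃ₗ[A] KObj A M l n := fun n =>
    LinearEquiv.ofBijective (s • LinearMap.id) (smul_bijective_KObj s h l n)
  refine ⟨fun n => match n with
    | 0 => LinearEquiv.refl A (KObj A M l 0)
    | n + 1 => (LinearEquiv.refl A (KObj A M l (n + 1))).prodCongr (σ n), fun n z => ?_⟩
  obtain ⟨a, b⟩ := z
  cases n with
  | zero =>
    show kd A M l 0 a + (s * f) • b = kd A M l 0 a + f • (s • b)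
    rw [smul_smul, mul_comm f s]
  | succ n =>
    show (kd A M l (n + 1) a + (s * f) • b, s • -kd A M l n b) =
      (kd A M l (n + 1) a + f • (s • b), -kd A M l n (s • b))
    rw [smul_smul, mul_comm f s, map_smul, smul_neg]

theorem kiso_scale (s : A → A) (h : ∀ y, Function.Bijective fun m : M => s y • m) (xs : List A) :
    ∀ ys : List A, KIso M (ys.map (fun y => s y * y) ++ xs) (ys ++ xs)
  | [] => KIso.refl _
  | y :: ys => ((kiso_scale s h xs ys).cons _).trans (kiso_scale_head (s y) y (h y) _)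

theorem nonempty_H_of_kiso {l l' : List A} (h : KIso M l l') (m : ℤ) :
    Nonempty (H A M l m ≃ₗ[A] H A M l' m) := by
  obtain ⟨e, he⟩ := h
  rcases lt_or_ge 0 m with hm | hm
  · haveI := subsingleton_H_pos A M l m hm
    haveI := subsingleton_H_pos A M l' m hm
    exact ⟨LinearEquiv.ofSubsingleton _ _⟩
  obtain ⟨n, hn⟩ : ∃ n : ℕ, m + n = 0 := ⟨(-m).toNat, by omega⟩
  exact ⟨(homologyEquiv A M l n m hn).trans ((hnEquivOfIso A M e he n).trans (homologyEquiv A M l' n m hn).symm)⟩

theorem subsingleton_H_of_ex {l : List A} (h : Ex A M l) {m : ℤ} (hm : m ≠ 0) : Subsingleton (H A M l m) := by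
  rcases lt_or_ge 0 m with hm' | hm'
  · exact subsingleton_H_pos A M l m hm'
  obtain ⟨n, hn⟩ : ∃ n : ℕ, m + (n + 1 : ℕ) = 0 := ⟨(-m).toNat - 1, by omega⟩
  haveI : Subsingleton (Hn A M l (n + 1)) := by
    refine Submodule.Quotient.subsingleton_iff.2 (eq_top_iff.2 ?_)
    rintro ⟨z, hz⟩ -
    exact h n z hz
  exact (homologyEquiv A M l (n + 1) m hn).toEquiv.subsingleton

/-- Degree zero homology. -/
def hnZero (l : List A) : Hn A M l 0 ≃ₗ[A] M ⧸ (Ideal.ofList l • (⊤ : Submodule A M)) :=
  Submodule.Quotient.equiv _ _ (Submodule.topEquiv.trans (k0 A M l)) (by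
    ext x
    constructor
    · rintro ⟨w, hw, rfl⟩
      exact (CanElt.mem_range_kd_zero A M l w.1).1 hw
    · intro hx
      exact ⟨⟨(k0 A M l).symm x, trivial⟩, (CanElt.mem_range_kd_zero A M l ((k0 A M l).symm x)).2
        (((k0 A M l).apply_symm_apply x).symm ▸ hx), (k0 A M l).apply_symm_apply x⟩)

/-- A product with all but a fibre trivial. -/
theorem nonempty_pi_fibre {ι : Type} (P : ι → Prop) [DecidablePred P] (X : ι → Type u)
    [∀ i, AddCommGroup (X i)] [∀ i, Module A (X i)] (Q : Type u) [AddCommGroup Q] [Module A Q]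
    (h0 : ∀ i, ¬ P i → Subsingleton (X i)) (e : ∀ i, P i → (X i ≃ₗ[A] Q)) :
    Nonempty ((∀ i, X i) ≃ₗ[A] ({i // P i} → Q)) :=
  ⟨LinearEquiv.ofBijective
    (LinearMap.pi fun i : {i // P i} => (e i.1 i.2).toLinearMap ∘ₗ LinearMap.proj i.1)
    ⟨fun f g hfg => funext fun i => by
      by_cases hi : P i
      · exact (e i hi).injective (congrFun hfg ⟨i, hi⟩)
      · exact (h0 i hi).elim _ _,
    fun y => ⟨fun i => if hi : P i then (e i hi).symm (y ⟨i, hi⟩) else 0, funext fun i => by
      show e i.1 i.2 (if hi : P i.1 then (e i.1 hi).symm (y ⟨i.1, hi⟩) else 0) = y i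
      rw [dif_pos i.2, LinearEquiv.apply_symm_apply]⟩⟩⟩

/-- Koszul homology of a sequence whose members lie, up to invertible scalars, in the ideal of a regular subsequence. -/
theorem nonempty_H_split {xs ys T : List A} (hperm : T.Perm (ys ++ xs)) (hx : Ex A M xs)
    (hy : ∀ y ∈ ys, ∃ s, (Function.Bijective fun m : M => s • m) ∧ s * y ∈ Ideal.ofList xs) (q : ℕ) :
    Nonempty (H A M T (-(q : ℤ)) ≃ₗ[A]
      (Fin (ys.length.choose q) → M ⧸ (Ideal.ofList xs • (⊤ : Submodule A M)))) := by
  classical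
  let s : A → A := fun y => if h : y ∈ ys then (hy y h).choose else 1
  have hs : ∀ y, Function.Bijective fun m : M => s y • m := fun y => by
    by_cases h : y ∈ ys
    · simp only [s, dif_pos h]; exact (hy y h).choose_spec.1
    · simp only [s, dif_neg h, one_smul]; exact Function.bijective_id
  obtain ⟨e1⟩ := nonempty_H_perm A M hperm (-(q : ℤ))
  obtain ⟨e2⟩ := nonempty_H_of_kiso (kiso_scale s hs xs ys) (-(q : ℤ))
  have hy' : ∀ z ∈ ys.map (fun y => s y * y), z ∈ Ideal.ofList xs := by
    intro z hz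
    obtain ⟨y, hy1, rfl⟩ := List.mem_map.1 hz
    simp only [s, dif_pos hy1]
    exact (hy y hy1).choose_spec.2
  obtain ⟨e3⟩ := nonempty_H_append A M xs (ys.map fun y => s y * y) hy' (-(q : ℤ))
  let r := (ys.map fun y => s y * y).length
  obtain ⟨e4⟩ := nonempty_pi_fibre (A := A) (fun c : Idx r => deg r c = q)
    (fun c => H A M xs (-(q : ℤ) + deg r c)) (M ⧸ (Ideal.ofList xs • (⊤ : Submodule A M)))
    (fun c hc => subsingleton_H_of_ex hx (by omega))
    (fun c hc => (homologyEquiv A M xs 0 _ (by omega)).trans (hnZero xs))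
  obtain ⟨σ⟩ := nonempty_fibre r q
  exact ⟨e1.trans (e2.symm.trans (e3.trans (e4.trans (LinearEquiv.funCongrLeft A _
    ((finCongr (by simp [r])).trans σ.symm)))))⟩

variable (p : Ideal A) [p.IsPrime]

theorem smul_bijective_Lp {s : A} (hs : s ∉ p) : Function.Bijective fun m : Lp p => s • m := by
  have h := IsUnit.isUnit_iff_mulLeft_bijective.1 (isUnit_of_notMem (p := p) hs)
  simpa [Algebra.smul_def] using h

/-- `A_p ⧸ (f) A_p` is the localisation of `A ⧸ J`. -/
theorem nonempty_quot_equiv {J : Ideal A} {c : ℕ} {f : Fin c → A} (h : Good p J f) :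
    Nonempty ((Lp p ⧸ (Ideal.ofList (List.ofFn f) • (⊤ : Submodule A (Lp p)))) ≃ₗ[A]
      LocalizedModule p.primeCompl (A ⧸ J)) := by
  let g := Submodule.toLocalizedQuotient' (Lp p) p.primeCompl (Algebra.linearMap A (Lp p)) (J : Submodule A A)
  have h1 : Submodule.localized' (Lp p) p.primeCompl (Algebra.linearMap A (Lp p)) (J : Submodule A A) =
      J.map (φ p) := by
    rw [Submodule.localized'_eq_span]
    rfl
  have h2 : (Ideal.ofList (List.ofFn f) • (⊤ : Submodule A (Lp p))) =
      Submodule.restrictScalars A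
        (Submodule.localized' (Lp p) p.primeCompl (Algebra.linearMap A (Lp p)) (J : Submodule A A)) := by
    rw [h1, Ideal.smul_top_eq_map, ofList_ofFn, Ideal.map_span, ← Set.range_comp]
    exact congrArg (Submodule.restrictScalars A) h.span_eq
  exact ⟨(Submodule.quotEquivOfEq _ _ h2).trans
    ((Submodule.Quotient.restrictScalarsEquiv A _).restrictScalars A |>.trans
      (IsLocalizedModule.linearEquiv p.primeCompl g (LocalizedModule.mkLinearMap p.primeCompl (A ⧸ J))))⟩

end Groth.Agent.Tor3Q9
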