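import Groth.Agent.Lib.Tor3Q9.Model
import Groth.Agent.Lib.Tor3Q9.Kernel
import Groth.Agent.Lib.SmoothReg17.Basic
import Groth.Prelude.Def_DTen3

/-!
# The triple Tor of three smooth quotients with smooth intersection
-/

set_option autoImplicit false
set_option linter.style.haveILetI false
set_option backward.isDefEq.respectTransparency.types false
set_option backward.isDefEq.respectTransparency false

universe u

open CategoryTheory CategoryTheory.Limits MonoidalCategory
open scoped TensorProduct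

attribute [local instance] HasDerivedCategory.standard

noncomputable section

namespace Groth.Agent.Tor3Q9

theorem regular_quotient {A : Type u} [CommRing A] (I : Ideal A)
    (hreg : ∀ (P : Ideal (A ⧸ I)) [P.IsPrime], IsRegularLocalRing (Localization.AtPrime P))
    (p : Ideal A) [p.IsPrime] (hle : I ≤ p) : IsRegularLocalRing (Lp p ⧸ I.map (φ p)) := by
  haveI hP : (p.map (Ideal.Quotient.mk I)).IsPrime :=
    Ideal.map_isPrime_of_surjective Ideal.Quotient.mk_surjective (by rwa [Ideal.mk_ker])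
  have hq : p = (p.map (Ideal.Quotient.mk I)).comap (Ideal.Quotient.mk I) := by
    rw [Ideal.comap_map_of_surjective _ Ideal.Quotient.mk_surjective]
    exact (sup_eq_left.2 (le_of_eq_of_le (Ideal.mk_ker (I := I)) hle)).symm
  have key : ∀ (P : Ideal (A ⧸ I)) [P.IsPrime] (q : Ideal A) [q.IsPrime], q = P.comap (Ideal.Quotient.mk I) →
      IsRegularLocalRing (Lp q ⧸ I.map (φ q)) := by
    intro P _ q _ h
    subst h
    haveI := hreg P
    exact IsRegularLocalRing.of_ringEquiv (RegLoc.localizationQuotientEquiv I P).symm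
  exact key _ p hq

variable (k : Type u) [Field k] (A : Type u) [CommRing A] [Algebra k A] [Algebra.Smooth k A]

theorem regular_smooth (B : Type u) [CommRing B] [Algebra k B] [Algebra.Smooth k B] (P : Ideal B) [P.IsPrime] :
    IsRegularLocalRing (Localization.AtPrime P) :=
  SmoothReg17.isRegularLocalRing_of_smooth (algebraMap k B) (RingHom.smooth_algebraMap.mpr ‹_›) P

theorem nonempty_tor3_equiv [DTen.HasLTen₃ A] (J₁ J₂ J₃ J : Ideal A) (hJ : J = J₁ ⊔ J₂ ⊔ J₃)
    [Algebra.Smooth k (A ⧸ J₁)] [Algebra.Smooth k (A ⧸ J₂)] [Algebra.Smooth k (A ⧸ J₃)]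
    [Algebra.Smooth k (A ⧸ J)]
    (S : (↥J₁ × (↥J₂ × ↥J₃)) →ₗ[A] ↥J) (hS : ∀ x, (S x : A) = (x.1 : A) + (x.2.1 : A) + (x.2.2 : A))
    (q : ℕ) (p : Ideal A) [p.IsPrime] :
    Nonempty (LocalizedModule p.primeCompl
          (Dual.HD A ((DTen.LTen₃ A).obj (Dual.inD A (A ⧸ J₁), (Dual.inD A (A ⧸ J₂), Dual.inD A (A ⧸ J₃)))) (-(q : ℤ)))
        ≃ₗ[A] LocalizedModule p.primeCompl
          (RestrictScalars A (A ⧸ J)
            ↥(⋀[A ⧸ J]^q ↥(LinearMap.ker (S.baseChange (A ⧸ J)))))) := by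
  classical
  haveI : IsNoetherianRing A := Algebra.FiniteType.isNoetherianRing k A
  haveI : IsRegularLocalRing (Lp p) := regular_smooth k A p
  obtain ⟨c₁, f₁, h₁⟩ := exists_good p J₁ (regular_quotient J₁ (fun P _ => regular_smooth k (A ⧸ J₁) P) p)
  obtain ⟨c₂, f₂, h₂⟩ := exists_good p J₂ (regular_quotient J₂ (fun P _ => regular_smooth k (A ⧸ J₂) P) p)
  obtain ⟨c₃, f₃, h₃⟩ := exists_good p J₃ (regular_quotient J₃ (fun P _ => regular_smooth k (A ⧸ J₃) P) p)
  have hle₁ : J₁ ≤ J := hJ ▸ le_sup_of_le_left le_sup_left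
  have hle₂ : J₂ ≤ J := hJ ▸ le_sup_of_le_left le_sup_right
  have hle₃ : J₃ ≤ J := hJ ▸ le_sup_right
  let t : Fin c₁ ⊕ (Fin c₂ ⊕ Fin c₃) → A := fun i => (S (gen h₁ h₂ h₃ i) : A)
  have ht₁ : ∀ i, t (Sum.inl i) = f₁ i := fun i => by simp [t, gen, hS]
  have ht₂ : ∀ i, t (Sum.inr (Sum.inl i)) = f₂ i := fun i => by simp [t, gen, hS]
  have ht₃ : ∀ i, t (Sum.inr (Sum.inr i)) = f₃ i := fun i => by simp [t, gen, hS]
  have hspan : Ideal.span (Set.range fun i => φ p (t i)) = J.map (φ p) := by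
    rw [hJ, Ideal.map_sup, Ideal.map_sup, ← h₁.span_eq, ← h₂.span_eq, ← h₃.span_eq, ← Ideal.span_union,
      ← Ideal.span_union]
    refine congrArg Ideal.span (Set.ext fun x => ⟨?_, ?_⟩)
    · rintro ⟨i | i | i, rfl⟩
      · exact Or.inl (Or.inl ⟨i, by simp only [ht₁]⟩)
      · exact Or.inl (Or.inr ⟨i, by simp only [ht₂]⟩)
      · exact Or.inr ⟨i, by simp only [ht₃]⟩
    · rintro ((⟨i, rfl⟩ | ⟨i, rfl⟩) | ⟨i, rfl⟩)
      · exact ⟨Sum.inl i, by simp only [ht₁]⟩
      · exact ⟨Sum.inr (Sum.inl i), by simp only [ht₂]⟩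
      · exact ⟨Sum.inr (Sum.inr i), by simp only [ht₃]⟩
  obtain ⟨r, c, e, hx⟩ := exists_select p J (regular_quotient J (fun P _ => regular_smooth k (A ⧸ J) P) p) t
    (fun i => (S _).2) hspan
  let ys := List.ofFn fun i => t (e (Sum.inl i))
  let xs := List.ofFn fun i => t (e (Sum.inr i))
  have hperm : (List.ofFn f₁ ++ (List.ofFn f₂ ++ List.ofFn f₃)).Perm (ys ++ xs) := by
    rw [← Multiset.coe_eq_coe]
    have key : ∀ {n : ℕ} (g : Fin n → A), ((List.ofFn g : List A) : Multiset A) = (Finset.univ : Finset (Fin n)).val.map g :=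
      fun g => (Fin.univ_val_map g).symm
    have hsum : ∀ {α β : Type} [Fintype α] [Fintype β] (g : α ⊕ β → A),
        (Finset.univ : Finset (α ⊕ β)).val.map g =
          (Finset.univ : Finset α).val.map (g ∘ Sum.inl) + (Finset.univ : Finset β).val.map (g ∘ Sum.inr) := by
      intro α β _ _ g
      rw [← Finset.univ_disjSum_univ, Finset.val_disjSum, Multiset.disjSum, Multiset.map_add, Multiset.map_map,
        Multiset.map_map]
    calc ((List.ofFn f₁ ++ (List.ofFn f₂ ++ List.ofFn f₃) : List A) : Multiset A)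
        = (Finset.univ : Finset (Fin c₁ ⊕ (Fin c₂ ⊕ Fin c₃))).val.map t := by
          rw [hsum t, hsum (t ∘ Sum.inr), ← Multiset.coe_add, ← Multiset.coe_add, key, key, key]
          congr 1
          · exact Multiset.map_congr rfl fun i _ => (ht₁ i).symm
          · congr 1
            · exact Multiset.map_congr rfl fun i _ => (ht₂ i).symm
            · exact Multiset.map_congr rfl fun i _ => (ht₃ i).symm
      _ = (Finset.univ : Finset (Fin r ⊕ Fin c)).val.map (t ∘ e) := by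
          rw [← Multiset.map_map]
          exact congrArg _ ((Finset.map_univ_equiv e).symm ▸ Finset.map_val e.toEmbedding Finset.univ)
      _ = _ := by
          rw [hsum (t ∘ e), ← Multiset.coe_add, key, key]
          rfl
  have hy : ∀ y ∈ ys, ∃ s, (Function.Bijective fun m : Lp p => s • m) ∧ s * y ∈ Ideal.ofList xs := by
    intro y hy
    obtain ⟨i, rfl⟩ := List.mem_ofFn.1 hy
    obtain ⟨s, hs, hsy⟩ := hx.exists_smul_mem (S (gen h₁ h₂ h₃ (e (Sum.inl i)))).2
    exact ⟨s, smul_bijective_Lp p hs, by rw [ofList_ofFn]; exact hsy⟩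
  obtain ⟨eH⟩ := h₁.nonempty_lten₃ p h₂ h₃ (-(q : ℤ))
  obtain ⟨eS⟩ := nonempty_H_split hperm hx.exA hy q
  obtain ⟨eQ⟩ := nonempty_quot_equiv p hx
  haveI : IsNoetherian (A ⧸ J) ((A ⧸ J) ⊗[A] (↥J₁ × (↥J₂ × ↥J₃))) := inferInstance
  obtain ⟨f, hf₁, hf₂⟩ := exists_kernel_basis h₁ h₂ h₃ hle₁ hle₂ hle₃ S e hx
  haveI : Module.Finite A (↥J₁ × (↥J₂ × ↥J₃)) := inferInstance
  haveI : Module.Finite (A ⧸ J) ↥(LinearMap.ker (S.baseChange (A ⧸ J))) :=
    Module.IsNoetherian.finite _ _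
  obtain ⟨eK⟩ := nonempty_exterior (B := A ⧸ J) (K := ↥(LinearMap.ker (S.baseChange (A ⧸ J)))) p f hf₁ hf₂ q
  have hlen : ys.length = r := List.length_ofFn
  exact ⟨eH.trans (eS.trans ((LinearEquiv.funCongrLeft A _ (finCongr (by rw [hlen]))).trans
    ((LinearEquiv.piCongrRight fun _ => eQ).trans eK.symm)))⟩

end Groth.Agent.Tor3Q9
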