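import Groth.Agent.Lib.Tor3Q9.Koszul
import Groth.Agent.Lib.KFlat.DTen
import Groth.Agent.Lib.RHom.SingleTensor
import Groth.Agent.Lib.TorsBC27.Tensor
import Groth.Agent.Lib.DMod.Homology
import Groth.Agent.Lib.CI2.ConeTensor
import Groth.Agent.Lib.KFlat.Brutal
import Mathlib.RingTheory.Flat.CategoryTheory

/-!
# Derived tensor products of quotients at a prime through local Koszul models
-/

set_option autoImplicit false
set_option linter.style.haveILetI false
set_option backward.isDefEq.respectTransparency.types false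
set_option backward.isDefEq.respectTransparency false

universe u

open CategoryTheory CategoryTheory.Limits MonoidalCategory
open Groth.Agent.CanElt (KObj kd k0)
open Groth.Agent.CI2 (Ex)
open scoped TensorProduct

attribute [local instance] HasDerivedCategory.standard

noncomputable section

namespace Groth.Agent.Tor3Q9

open Groth.Agent.KFlat Groth.Agent.KFlat.Module

variable {A : Type u} [CommRing A] (p : Ideal A) [p.IsPrime]

/-- `A_p` as a module. -/
abbrev Lm : ModuleCat.{u} A := ModuleCat.of A (Lp p)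

/-- `A_p` as a complex. -/
abbrev Lc : DRing.Cx A := (HomologicalComplex.single (ModuleCat.{u} A) (ComplexShape.up ℤ) 0).obj (Lm p)

/-- `- ⊗ A_p` termwise. -/
abbrev F : DRing.Cx A ⥤ DRing.Cx A := (tensorRight (Lm p)).mapHomologicalComplex (ComplexShape.up ℤ)

instance flat_Lp : _root_.Module.Flat A (Lp p) := IsLocalization.flat (Lp p) p.primeCompl

instance preservesHomology_tensorRight_Lm : (tensorRight (Lm p)).PreservesHomology :=
  TorsBC27.preservesHomology_tensorRight (A := A) (Lp p)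

theorem isKFlat_Lc : DRing.IsKFlat A (Lc p) := by
  haveI : CochainComplex.IsStrictlyLE (Lc p) 0 := (CochainComplex.isStrictlyLE_iff _ 0).2 fun i hi =>
    HomologicalComplex.isZero_single_obj_X (ComplexShape.up ℤ) 0 _ i (by omega)
  refine (isKFlat_iff _).1 (KFlat.isKFlat_of_boundedAbove_flat (Lc p) 0 fun n => (isFlat_iff _).2 ?_)
  by_cases hn : n = 0
  · subst hn
    exact _root_.Module.Flat.of_linearEquiv
      (HomologicalComplex.singleObjXSelf (ComplexShape.up ℤ) 0 (Lm p)).toLinearEquiv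
  · haveI := ModuleCat.subsingleton_of_isZero
      (HomologicalComplex.isZero_single_obj_X (ComplexShape.up ℤ) 0 (Lm p) n hn)
    infer_instance

/-- `X ⊗ A_p` is the termwise tensor product. -/
def stIso (X : DRing.Cx A) : X ⊗ Lc p ≅ (F p).obj X :=
  RHom.singleTensorIso (TM A) 0 (Lm p) X ≪≫ (shiftFunctorZero' (DRing.Cx A) (-(0 : ℤ)) (by simp)).app _

theorem stIso_natural {X Y : DRing.Cx A} (f : X ⟶ Y) :
    (f ▷ Lc p) ≫ (stIso p Y).hom = (stIso p X).hom ≫ (F p).map f := by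
  have h1 := RHom.singleTensorIso_natural (TM A) 0 (Lm p) f
  have h2 := (shiftFunctorZero' (DRing.Cx A) (-(0 : ℤ)) (by simp)).hom.naturality ((F p).map f)
  simp only [stIso, Iso.trans_hom, Iso.app_hom, Category.assoc]
  erw [← Category.assoc, h1, Category.assoc]
  erw [h2]
  rfl

/-- Becomes a quasi-isomorphism at `p`. -/
def LQ {X Y : DRing.Cx A} (f : X ⟶ Y) : Prop := QuasiIso (f ▷ Lc p)

variable {p}

theorem LQ.of_qis {X Y : DRing.Cx A} (f : X ⟶ Y) (hf : QuasiIso f) : LQ p f :=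
  haveI := hf
  KFlat.DT.quasiIso_whiskerRight f (isKFlat_Lc p)

theorem LQ.of_F {X Y : DRing.Cx A} (f : X ⟶ Y) (hf : QuasiIso ((F p).map f)) : LQ p f := by
  haveI := hf
  show QuasiIso (f ▷ Lc p)
  rw [show f ▷ Lc p = (stIso p X).hom ≫ (F p).map f ≫ (stIso p Y).inv by
    rw [← Category.assoc, ← stIso_natural, Category.assoc, Iso.hom_inv_id, Category.comp_id]]
  infer_instance

theorem LQ.whiskerRight {X Y : DRing.Cx A} {f : X ⟶ Y} (hf : LQ p f) {P : DRing.Cx A}
    (hP : DRing.IsKFlat A P) : LQ p (f ▷ P) := by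
  haveI : QuasiIso ((f ▷ Lc p) ▷ P) := @KFlat.DT.quasiIso_whiskerRight A _ _ _ (f ▷ Lc p) hf _ hP
  let e : ∀ Z : DRing.Cx A, (Z ⊗ P) ⊗ Lc p ≅ (Z ⊗ Lc p) ⊗ P := fun Z =>
    α_ Z P (Lc p) ≪≫ whiskerLeftIso Z (DTen.braidCx (Lc p) P).symm ≪≫ (α_ Z (Lc p) P).symm
  show QuasiIso ((f ▷ P) ▷ Lc p)
  have h : ((f ▷ P) ▷ Lc p) ≫ (e Y).hom = (e X).hom ≫ ((f ▷ Lc p) ▷ P) := by
    simp only [e, Iso.trans_hom, whiskerLeftIso_hom, Iso.symm_hom, Category.assoc]
    rw [associator_naturality_left_assoc, ← whisker_exchange_assoc, associator_inv_naturality_left]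
  rw [show (f ▷ P) ▷ Lc p = (e X).hom ≫ ((f ▷ Lc p) ▷ P) ≫ (e Y).inv by
    rw [← Category.assoc, ← h, Category.assoc, Iso.hom_inv_id, Category.comp_id]]
  infer_instance

theorem LQ.whiskerLeft {X Y : DRing.Cx A} {f : X ⟶ Y} (hf : LQ p f) {P : DRing.Cx A}
    (hP : DRing.IsKFlat A P) : LQ p (P ◁ f) := by
  haveI : QuasiIso (P ◁ (f ▷ Lc p)) := @KFlat.DT.quasiIso_whiskerLeft A _ _ _ (f ▷ Lc p) hf _ hP
  show QuasiIso ((P ◁ f) ▷ Lc p)
  rw [whisker_assoc]
  infer_instance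

/-- Homology at `p`. -/
abbrev Hl (p : Ideal A) [p.IsPrime] (X : DRing.Cx A) (m : ℤ) : Type u := ((X ⊗ Lc p).homology m : Type u)

theorem LQ.nonempty_equiv {X Y : DRing.Cx A} {f : X ⟶ Y} (hf : LQ p f) (m : ℤ) :
    Nonempty (Hl p X m ≃ₗ[A] Hl p Y m) := by
  haveI : QuasiIso (f ▷ Lc p) := hf
  exact ⟨(isoOfQuasiIsoAt (f ▷ Lc p) m).toLinearEquiv⟩

variable (p)

theorem nonempty_Hl_localized (X : DRing.Cx A) (m : ℤ) :
    Nonempty (Hl p X m ≃ₗ[A] LocalizedModule p.primeCompl (X.homology m)) := by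
  let e : (X ⊗ Lc p).homology m ≅ (tensorRight (Lm p)).obj (X.homology m) :=
    (HomologicalComplex.homologyFunctor _ _ m).mapIso (stIso p X) ≪≫ (X.sc m).mapHomologyIso (tensorRight (Lm p))
  exact ⟨e.toLinearEquiv.trans ((TensorProduct.comm A _ _).trans
    ((IsLocalizedModule.isBaseChange p.primeCompl (Lp p)
      (LocalizedModule.mkLinearMap p.primeCompl (X.homology m))).equiv.restrictScalars A))⟩

theorem nonempty_Hl_koszul (l : List A) (m : ℤ) :
    Nonempty (Hl p (Koszul.koszul A l) m ≃ₗ[A] KoszulSplit2.H A (Lp p) l m) :=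
  ⟨((HomologicalComplex.homologyFunctor _ _ m).mapIso (stIso p (Koszul.koszul A l))).toLinearEquiv⟩

theorem isKFlat_koszul (l : List A) : DRing.IsKFlat A (Koszul.koszul A l) := by
  haveI : CochainComplex.IsStrictlyLE (Koszul.koszul A l) 0 :=
    (CochainComplex.isStrictlyLE_iff _ 0).2 fun i hi => CI2.isZero_X_of_pos A l i hi
  refine (isKFlat_iff _).1 (KFlat.isKFlat_of_boundedAbove_flat _ 0 fun n => (isFlat_iff _).2 ?_)
  rcases lt_or_ge 0 n with hn | hn
  · haveI := ModuleCat.subsingleton_of_isZero (CI2.isZero_X_of_pos A l n hn)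
    infer_instance
  · obtain ⟨k, hk⟩ : ∃ k : ℕ, n + k = 0 := ⟨(-n).toNat, by omega⟩
    haveI : _root_.Module.Projective A (KObj A A l k) := CanElt.projective_KObj A A l k
    exact _root_.Module.Flat.of_linearEquiv (CI2.kEquiv A l k n hk)

theorem k0_te (M : Type u) [AddCommGroup M] [Module A M] : ∀ (l : List A) (x : KObj A A l 0 ⊗[A] M),
    k0 A M l (KEuler6.te A M l 0 x) = TensorProduct.lid A M ((k0 A A l).toLinearMap.rTensor M x)
  | [], x => by
    show TensorProduct.lid A M x = TensorProduct.lid A M ((LinearMap.id : A →ₗ[A] A).rTensor M x)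
    rw [LinearMap.rTensor_id]
    rfl
  | _ :: l, x => k0_te M l x

/-- A model at `p` of a quotient. -/
theorem exists_aug {I : Ideal A} {c : ℕ} {f : Fin c → A} (h : Good p I f) :
    ∃ g : Koszul.koszul A (List.ofFn f) ⟶
      (HomologicalComplex.single (ModuleCat.{u} A) (ComplexShape.up ℤ) 0).obj (ModuleCat.of A (A ⧸ I)),
      LQ p g := by
  set l := List.ofFn f with hl
  let K := Koszul.koszul A l
  have hle : Ideal.ofList l ≤ I := by
    rw [hl, ofList_ofFn]
    exact Ideal.span_le.2 (by rintro _ ⟨i, rfl⟩; exact h.mem i)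
  let π : KObj A A l 0 →ₗ[A] A ⧸ I := (Submodule.mkQ (I : Submodule A A)) ∘ₗ (k0 A A l).toLinearMap
  have hπ : ∀ v, π (kd A A l 0 v) = 0 := fun v => by
    refine (Submodule.Quotient.mk_eq_zero _).2 (hle ?_)
    have := (CanElt.mem_range_kd_zero A A l _).1 ⟨v, rfl⟩
    rwa [smul_eq_mul, Ideal.mul_top] at this
  let φ₀ : K.X 0 ⟶ ModuleCat.of A (A ⧸ I) := ModuleCat.ofHom (π ∘ₗ (CI2.kEquiv A l 0 0 rfl).toLinearMap)
  let g : K ⟶ (HomologicalComplex.single (ModuleCat.{u} A) (ComplexShape.up ℤ) 0).obj (ModuleCat.of A (A ⧸ I)) :=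
    HomologicalComplex.mkHomToSingle φ₀ fun i (hi : i + 1 = 0) => by
      obtain rfl : i = -1 := by omega
      refine ModuleCat.hom_ext (LinearMap.ext fun z => ?_)
      show π (CI2.kEquiv A l 0 (-1 + 1) rfl ((K.d (-1) (-1 + 1)).hom z)) = 0
      rw [CI2.kEquiv_d A l 0 (-1) rfl z, hπ]
  refine ⟨g, LQ.of_F g ⟨fun m => (quasiIsoAt_iff_isIso_homologyMap _ _).2 ?_⟩⟩
  rw [ConcreteCategory.isIso_iff_bijective]
  by_cases hm : m = 0
  · subst hm
    have htgt : ∀ j k, ((F p).obj ((HomologicalComplex.single (ModuleCat.{u} A) (ComplexShape.up ℤ) 0).obj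
        (ModuleCat.of A (A ⧸ I)))).d j k = 0 := fun j k => by
      show (tensorRight (Lm p)).map _ = 0
      rw [HomologicalComplex.single_obj_d, Functor.map_zero]
    let ι : A ⧸ I →ₗ[A] ((HomologicalComplex.single (ModuleCat.{u} A) (ComplexShape.up ℤ) 0).obj
        (ModuleCat.of A (A ⧸ I))).X 0 :=
      (HomologicalComplex.singleObjXSelf (ComplexShape.up ℤ) 0 (ModuleCat.of A (A ⧸ I))).inv.hom
    have hιb : Function.Bijective ι := (ConcreteCategory.isIso_iff_bijective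
      (HomologicalComplex.singleObjXSelf (ComplexShape.up ℤ) 0 (ModuleCat.of A (A ⧸ I))).inv).1 inferInstance
    have hg0 : ((F p).map g).f 0 = ModuleCat.ofHom ((ι ∘ₗ π ∘ₗ (CI2.kEquiv A l 0 0 rfl).toLinearMap).rTensor (Lp p)) := by
      show (tensorRight (Lm p)).map (g.f 0) = _
      rw [HomologicalComplex.mkHomToSingle_f]
      rfl
    have hsurj : Function.Surjective (ι ∘ₗ π ∘ₗ (CI2.kEquiv A l 0 0 rfl).toLinearMap) :=
      hιb.surjective.comp (((Submodule.mkQ_surjective _).comp (k0 A A l).surjective).comp (LinearEquiv.surjective _))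
    refine DMod.homologyMap_bijective_of _ (i := -1) (k := 1) (by simp) (by simp) (fun x _ => ?_) ?_
    · obtain ⟨w, hw⟩ := LinearMap.rTensor_surjective (Lp p) hsurj x
      refine ⟨w, 0, ?_, by rw [hg0, map_zero, add_zero]; exact hw⟩
      exact (ModuleCat.subsingleton_of_isZero (KEuler6.isZero_X A (Lp p) l 1 (by omega))).elim _ _
    · intro w y _ hy
      rw [hg0, htgt] at hy
      have hw : ((ι ∘ₗ π ∘ₗ (CI2.kEquiv A l 0 0 rfl).toLinearMap).rTensor (Lp p)) w = 0 := hy.symm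
      rw [LinearMap.rTensor_comp_apply, LinearMap.rTensor_comp_apply] at hw
      let v := (CI2.kEquiv A l 0 0 rfl).toLinearMap.rTensor (Lp p) w
      have hv : π.rTensor (Lp p) v = 0 :=
        (LinearEquiv.rTensor (Lp p) (LinearEquiv.ofBijective ι hιb)).injective (hw.trans (map_zero _).symm)
      rw [LinearMap.rTensor_comp_apply] at hv
      have hex : Function.Exact ((Submodule.subtype (I : Submodule A A)).rTensor (Lp p))
          ((Submodule.mkQ (I : Submodule A A)).rTensor (Lp p)) :=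
        rTensor_exact (Lp p) (LinearMap.exact_subtype_mkQ _) (Submodule.mkQ_surjective _)
      obtain ⟨z, hz⟩ := (hex _).1 hv
      have hk : k0 A (Lp p) l (KEuler6.eX A (Lp p) l 0 0 rfl w) ∈
          Ideal.ofList l • (⊤ : Submodule A (Lp p)) := by
        have e1 : k0 A (Lp p) l (KEuler6.eX A (Lp p) l 0 0 rfl w) =
            TensorProduct.lid A (Lp p) ((k0 A A l).toLinearMap.rTensor (Lp p) v) := k0_te (Lp p) l v
        rw [e1, ← hz]
        have hI : (Ideal.ofList l • (⊤ : Submodule A (Lp p))) = (I • (⊤ : Submodule A (Lp p))) := by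
          rw [Ideal.smul_top_eq_map, Ideal.smul_top_eq_map, hl, ofList_ofFn, Ideal.map_span, ← Set.range_comp]
          exact congrArg (Submodule.restrictScalars A) h.span_eq
        rw [hI]
        clear hz
        induction z using TensorProduct.induction_on with
        | zero => simp
        | add a b ha hb => rw [map_add, map_add]; exact add_mem ha hb
        | tmul a b =>
          rw [LinearMap.rTensor_tmul, TensorProduct.lid_tmul]
          exact Submodule.smul_mem_smul a.2 trivial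
      obtain ⟨u, hu⟩ := (CanElt.mem_range_kd_zero A (Lp p) l _).2 hk
      refine ⟨(KEuler6.eX A (Lp p) l 1 (-1) (by omega)).symm u, (KEuler6.eX A (Lp p) l 0 0 rfl).injective ?_⟩
      refine (KEuler6.eX_d A (Lp p) l 0 (-1) 0 (by omega) rfl _).trans ?_
      rw [LinearEquiv.apply_symm_apply]
      exact hu
  · haveI : Subsingleton (((F p).obj K).homology m) := subsingleton_H_of_ex h.exA hm
    haveI : Subsingleton (((F p).obj ((HomologicalComplex.single (ModuleCat.{u} A) (ComplexShape.up ℤ) 0).obj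
        (ModuleCat.of A (A ⧸ I)))).homology m) :=
      ModuleCat.subsingleton_of_isZero ((HomologicalComplex.exactAt_iff_isZero_homology _ _).1
        (ShortComplex.exact_of_isZero_X₂ (((F p).obj ((HomologicalComplex.single (ModuleCat.{u} A) (ComplexShape.up ℤ) 0).obj
          (ModuleCat.of A (A ⧸ I)))).sc m) (Functor.map_isZero (tensorRight (Lm p))
          (HomologicalComplex.isZero_single_obj_X (ComplexShape.up ℤ) 0 (ModuleCat.of A (A ⧸ I)) m hm))))
    exact ⟨fun _ _ _ => Subsingleton.elim _ _, fun y => ⟨0, Subsingleton.elim _ _⟩⟩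

theorem Good.nonempty_lten₃ [DTen.HasLTen₃ A] {I₁ I₂ I₃ : Ideal A} {c₁ c₂ c₃ : ℕ} {f₁ : Fin c₁ → A}
    {f₂ : Fin c₂ → A} {f₃ : Fin c₃ → A} (h₁ : Good p I₁ f₁) (h₂ : Good p I₂ f₂) (h₃ : Good p I₃ f₃) (m : ℤ) :
    Nonempty (LocalizedModule p.primeCompl (Dual.HD A ((DTen.LTen₃ A).obj
        (Dual.inD A (A ⧸ I₁), (Dual.inD A (A ⧸ I₂), Dual.inD A (A ⧸ I₃)))) m) ≃ₗ[A]
      KoszulSplit2.H A (Lp p) (List.ofFn f₁ ++ (List.ofFn f₂ ++ List.ofFn f₃)) m) := by
  let S : Ideal A → DRing.Cx A := fun I =>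
    (HomologicalComplex.single (ModuleCat.{u} A) (ComplexShape.up ℤ) 0).obj (ModuleCat.of A (A ⧸ I))
  let R : Ideal A → DRing.Cx A := fun I => (KFlat.DT.res A).obj (S I)
  let π : ∀ I, R I ⟶ S I := fun I => (KFlat.DT.aug A).app (S I)
  have hπ : ∀ I, LQ p (π I) := fun I => LQ.of_qis _ (KFlat.DT.qis_aug (S I))
  have hR : ∀ I, DRing.IsKFlat A (R I) := fun I => KFlat.DT.isKFlat_res _
  let E : ∀ I : Ideal A, Dual.inD A (A ⧸ I) ≅ DerivedCategory.Q.obj (R I) := fun I =>
    ((DerivedCategory.singleFunctorIsoCompQ (ModuleCat.{u} A) 0).app (ModuleCat.of A (A ⧸ I))) ≪≫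
      (haveI := KFlat.DT.isIso_Q_map _ (KFlat.DT.qis_aug (S I)); (asIso (DerivedCategory.Q.map (π I))).symm)
  obtain ⟨g₁, hg₁⟩ := exists_aug p h₁
  obtain ⟨g₂, hg₂⟩ := exists_aug p h₂
  obtain ⟨g₃, hg₃⟩ := exists_aug p h₃
  let K₁ := Koszul.koszul A (List.ofFn f₁)
  let K₂ := Koszul.koszul A (List.ofFn f₂)
  let K₃ := Koszul.koszul A (List.ofFn f₃)
  let X := R I₁ ⊗ (R I₂ ⊗ R I₃)
  haveI := KFlat.DT.isIso_ε₃ (hR I₁) (hR I₂) (hR I₃)
  let e : (DTen.LTen₃ A).obj (Dual.inD A (A ⧸ I₁), (Dual.inD A (A ⧸ I₂), Dual.inD A (A ⧸ I₃))) ≅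
      DerivedCategory.Q.obj X :=
    (DTen.LTen₃ A).mapIso (Iso.prod (E I₁) (Iso.prod (E I₂) (E I₃))) ≪≫
      asIso ((DTen.ε₃ A).app (R I₁, (R I₂, R I₃)))
  let e0 : Dual.HD A ((DTen.LTen₃ A).obj (Dual.inD A (A ⧸ I₁), (Dual.inD A (A ⧸ I₂), Dual.inD A (A ⧸ I₃)))) m ≃ₗ[A]
      (X.homology m : Type u) :=
    (((DerivedCategory.homologyFunctor (ModuleCat.{u} A) m).mapIso e) ≪≫
      (DerivedCategory.homologyFunctorFactors (ModuleCat.{u} A) m).app X).toLinearEquiv
  have hK := fun l : List A => isKFlat_koszul l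
  have h23 := KFlat.DT.isKFlat_tensor (hR I₂) (hR I₃)
  obtain ⟨x0⟩ := nonempty_Hl_localized p X m
  obtain ⟨a⟩ := ((hπ I₁).whiskerRight h23).nonempty_equiv m
  obtain ⟨b⟩ := (hg₁.whiskerRight h23).nonempty_equiv m
  obtain ⟨c⟩ := (((hπ I₂).whiskerRight (hR I₃)).whiskerLeft (hK (List.ofFn f₁))).nonempty_equiv m
  obtain ⟨d⟩ := ((hg₂.whiskerRight (hR I₃)).whiskerLeft (hK (List.ofFn f₁))).nonempty_equiv m
  obtain ⟨a'⟩ := (((hπ I₃).whiskerLeft (hK (List.ofFn f₂))).whiskerLeft (hK (List.ofFn f₁))).nonempty_equiv m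
  obtain ⟨b'⟩ := ((hg₃.whiskerLeft (hK (List.ofFn f₂))).whiskerLeft (hK (List.ofFn f₁))).nonempty_equiv m
  obtain ⟨k1⟩ := CI2.ConeTensor.koszul_tensor (A := A) (List.ofFn f₂) (List.ofFn f₃)
  obtain ⟨k2⟩ := CI2.ConeTensor.koszul_tensor (A := A) (List.ofFn f₁) (List.ofFn f₂ ++ List.ofFn f₃)
  let k : K₁ ⊗ (K₂ ⊗ K₃) ≅ Koszul.koszul A (List.ofFn f₁ ++ (List.ofFn f₂ ++ List.ofFn f₃)) :=
    whiskerLeftIso K₁ k1 ≪≫ k2
  let kl := ((HomologicalComplex.homologyFunctor _ _ m).mapIso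
    (whiskerRightIso k (Lc p))).toLinearEquiv
  obtain ⟨z⟩ := nonempty_Hl_koszul p (List.ofFn f₁ ++ (List.ofFn f₂ ++ List.ofFn f₃)) m
  exact ⟨(LinearEquiv.restrictScalars A (IsLocalizedModule.mapEquiv p.primeCompl
      (LocalizedModule.mkLinearMap p.primeCompl _) (LocalizedModule.mkLinearMap p.primeCompl _)
      (Lp p) e0)).trans
    (x0.symm.trans (a.trans (b.symm.trans (c.trans (d.symm.trans (a'.trans (b'.symm.trans (kl.trans z))))))))⟩

end Groth.Agent.Tor3Q9
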